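import Groth.Agent.EtProperH0Lib.EffApps
import Groth.Agent.EtShLib.SetSheaf

/-!
# Base change and counits for étale sheaves of sets
-/

set_option autoImplicit false
set_option linter.style.haveILetI false
set_option linter.unusedSectionVars false
set_option backward.isDefEq.respectTransparency false
set_option backward.isDefEq.respectTransparency.types false
universe u

open CategoryTheory CategoryTheory.Limits AlgebraicGeometry Opposite Groth.Agent.EtShLib

namespace ModifSquareLib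

noncomputable section

instance : AB5OfSize.{u, u} (Type (u + 1)) := AB5OfSize_of_univLE.{u, u, u + 1, u + 1} (Type (u + 1))

theorem pushCongrSh_refl {X S : Scheme.{u}} {f : X ⟶ S} (h : f = f) :
    (EtBC.pushCongrSh h).hom = 𝟙 (EtDesc.pushSh f) := by
  refine NatTrans.ext (funext fun F => Sheaf.hom_ext (NatTrans.ext (funext fun U => ?_)))
  have e : ∀ V : S.Etale, (MorphismProperty.Over.pullbackCongr (P := EtCoh.etaleMP) (Q := ⊤) h).inv.app V = 𝟙 _ := fun V => by
    refine MorphismProperty.Over.Hom.ext ?_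
    apply pullback.hom_ext <;> simp [MorphismProperty.Over.pullbackCongr] <;> exact Category.id_comp _
  show F.obj.map ((MorphismProperty.Over.pullbackCongr (P := EtCoh.etaleMP) (Q := ⊤) h).inv.app U.unop).op = _
  rw [e, op_id, F.obj.map_id]
  rfl

theorem pushCongrSh_symm {X S : Scheme.{u}} {f f' : X ⟶ S} (h : f = f') (h' : f' = f) :
    (EtBC.pushCongrSh h).hom ≫ (EtBC.pushCongrSh h').hom = 𝟙 _ := by
  subst h
  rw [pushCongrSh_refl h', Category.id_comp]

/-- The transpose of a map precomposed with the comparison of iterated inverse images. -/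
theorem homEquiv_pullVia {T S X : Scheme.{u}} (g : T ⟶ S) (a : S ⟶ X) (b : T ⟶ X) (w : g ≫ a = b)
    (M : EtDesc.Sh X) (N : EtDesc.Sh T) (x : (EtDesc.pullSh g).obj ((EtDesc.pullSh a).obj M) ⟶ N) :
    (EtDesc.adjSh b).homEquiv M N ((EtDesc.pullVia g a b w M).inv ≫ x) =
      (EtDesc.adjSh a).homEquiv _ _ ((EtDesc.adjSh g).homEquiv _ _ x) ≫ (EtDesc.pushCompSh a g).hom.app N ≫
        (EtBC.pushCongrSh w).hom.app N := by
  subst w
  rw [pushCongrSh_refl, NatTrans.id_app, Category.comp_id]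
  have e : (EtDesc.pullVia g a (g ≫ a) rfl M).inv = (EtDesc.pullCompSh g a).hom.app M := by
    simp [EtDesc.pullVia, EtDesc.pullCongrSh]
  rw [e, EtDesc.pullCompSh, Adjunction.homEquiv_apply, Functor.map_comp,
    Adjunction.unit_leftAdjointUniq_hom_app_assoc, ← Adjunction.homEquiv_apply,
    Adjunction.homEquiv_ofNatIsoRight_apply, Adjunction.comp_homEquiv]
  rfl

variable {X S X' S' : Scheme.{u}}

/-- The canonical identification of the two iterated inverse images around a square. -/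
def canon (f : X ⟶ S) (g : S' ⟶ S) (f' : X' ⟶ S') (g' : X' ⟶ X) (w : g' ≫ f = f' ≫ g) (M : EtDesc.Sh S) :
    (EtDesc.pullSh g').obj ((EtDesc.pullSh f).obj M) ≅ (EtDesc.pullSh f').obj ((EtDesc.pullSh g).obj M) :=
  EtDesc.pullVia g' f (g' ≫ f) rfl M ≪≫ (EtDesc.pullVia f' g (g' ≫ f) w.symm M).symm

theorem pullVia_natural {T S X : Scheme.{u}} (g : T ⟶ S) (a : S ⟶ X) (b : T ⟶ X) (w : g ≫ a = b)
    {M M' : EtDesc.Sh X} (k : M ⟶ M') :
    (EtDesc.pullSh g).map ((EtDesc.pullSh a).map k) ≫ (EtDesc.pullVia g a b w M').hom =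
      (EtDesc.pullVia g a b w M).hom ≫ (EtDesc.pullSh b).map k := by
  subst w
  have e : ∀ N : EtDesc.Sh X, (EtDesc.pullVia g a (g ≫ a) rfl N).hom = (EtDesc.pullCompSh g a).inv.app N := fun N => by
    simp [EtDesc.pullVia, EtDesc.pullCongrSh]
  rw [e, e]
  exact (EtDesc.pullCompSh g a).inv.naturality k

theorem canon_natural (f : X ⟶ S) (g : S' ⟶ S) (f' : X' ⟶ S') (g' : X' ⟶ X) (w : g' ≫ f = f' ≫ g)
    {M M' : EtDesc.Sh S} (k : M ⟶ M') :
    (EtDesc.pullSh g').map ((EtDesc.pullSh f).map k) ≫ (canon f g f' g' w M').hom =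
      (canon f g f' g' w M).hom ≫ (EtDesc.pullSh f').map ((EtDesc.pullSh g).map k) := by
  rw [canon, canon, Iso.trans_hom, Iso.trans_hom, Iso.symm_hom, Iso.symm_hom, Category.assoc,
    ← Category.assoc, pullVia_natural, Category.assoc]
  refine congrArg (fun m => _ ≫ m) ?_
  rw [Iso.comp_inv_eq, Category.assoc, pullVia_natural, Iso.inv_hom_id_assoc]

/-- The adjunct of the base change map is the counit. -/
theorem counit_eq (f : X ⟶ S) (g : S' ⟶ S) (f' : X' ⟶ S') (g' : X' ⟶ X) (w : g' ≫ f = f' ≫ g) (F : EtDesc.Sh X) :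
    (EtDesc.pullSh g').map ((EtDesc.adjSh f).counit.app F) =
      (canon f g f' g' w ((EtDesc.pushSh f).obj F)).hom ≫
        (EtDesc.pullSh f').map (EtBC.baseChange0Sh f g f' g' w F) ≫
          (EtDesc.adjSh f').counit.app ((EtDesc.pullSh g').obj F) := by
  rw [canon, Iso.trans_hom, Iso.symm_hom, Category.assoc, ← Iso.inv_comp_eq]
  apply ((EtDesc.adjSh (g' ≫ f)).homEquiv _ _).injective
  rw [homEquiv_pullVia g' f _ rfl, homEquiv_pullVia f' g _ w.symm, pushCongrSh_refl, NatTrans.id_app,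
    Category.comp_id]
  have e1 : (EtDesc.adjSh f).homEquiv _ _ ((EtDesc.adjSh g').homEquiv _ _
      ((EtDesc.pullSh g').map ((EtDesc.adjSh f).counit.app F))) =
      (EtDesc.pushSh f).map ((EtDesc.adjSh g').unit.app F) := by
    have u : (EtDesc.adjSh g').homEquiv _ _ ((EtDesc.pullSh g').map ((EtDesc.adjSh f).counit.app F)) =
        (EtDesc.adjSh f).counit.app F ≫ (EtDesc.adjSh g').unit.app F :=
      ((EtDesc.adjSh g').homEquiv_apply _ _ _).trans ((EtDesc.adjSh g').unit.naturality _).symm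
    refine (congrArg ((EtDesc.adjSh f).homEquiv _ _) u).trans ?_
    refine ((EtDesc.adjSh f).homEquiv_naturality_right _ _).trans ?_
    rw [Adjunction.homEquiv_apply]
    exact (congrArg (fun m => m ≫ _) ((EtDesc.adjSh f).right_triangle_components F)).trans (Category.id_comp _)
  have e2 : (EtDesc.adjSh f').homEquiv _ _ ((EtDesc.pullSh f').map (EtBC.baseChange0Sh f g f' g' w F) ≫
      (EtDesc.adjSh f').counit.app ((EtDesc.pullSh g').obj F)) = EtBC.baseChange0Sh f g f' g' w F :=
    (Equiv.apply_eq_iff_eq_symm_apply _).2 ((EtDesc.adjSh f').homEquiv_symm_apply _ _ _).symm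
  refine ((congrArg (fun m => m ≫ _) e1).trans ?_).trans
    (congrArg (fun m => (EtDesc.adjSh g).homEquiv _ _ m ≫ _) e2).symm
  refine Eq.trans ?_ (congrArg (fun m => m ≫ _) ((Equiv.apply_symm_apply ((EtDesc.adjSh g).homEquiv _ _) _).symm))
  simp only [Functor.id_obj, Category.assoc, Iso.inv_hom_id_app_assoc]
  have hc := congrArg (fun t => t.app ((EtDesc.pullSh g').obj F)) (pushCongrSh_symm w w.symm)
  simp only [NatTrans.comp_app, NatTrans.id_app] at hc
  rw [hc]
  exact congrArg (fun m => _ ≫ m) (Category.comp_id _).symm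

theorem baseChange0Sh_natural (f : X ⟶ S) (g : S' ⟶ S) (f' : X' ⟶ S') (g' : X' ⟶ X) (w : g' ≫ f = f' ≫ g)
    {F F' : EtDesc.Sh X} (k : F ⟶ F') :
    (EtDesc.pullSh g).map ((EtDesc.pushSh f).map k) ≫ EtBC.baseChange0Sh f g f' g' w F' =
      EtBC.baseChange0Sh f g f' g' w F ≫ (EtDesc.pushSh f').map ((EtDesc.pullSh g').map k) := by
  apply ((EtDesc.adjSh g).homEquiv _ _).injective
  rw [Adjunction.homEquiv_naturality_left, Adjunction.homEquiv_naturality_right, EtBC.baseChange0Sh,
    EtBC.baseChange0Sh, Equiv.apply_symm_apply, Equiv.apply_symm_apply]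
  have h1 := (EtDesc.adjSh g').unit.naturality k
  rw [← Functor.map_comp_assoc]
  simp only [Functor.id_map, Functor.comp_map] at h1
  rw [h1, Functor.map_comp_assoc]
  simp only [Category.assoc]
  have h2 := ((EtDesc.pushCompSh f g') ≪≫ EtBC.pushCongrSh w ≪≫ (EtDesc.pushCompSh g f').symm).hom.naturality
    ((EtDesc.pullSh g').map k)
  simp only [Iso.trans_hom, Iso.symm_hom, NatTrans.comp_app, Category.assoc, Functor.comp_map] at h2
  rw [h2]

/-- Any morphism of sheaves on an empty scheme is an isomorphism. -/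
theorem isIso_of_isEmpty [IsEmpty X] {F G : EtDesc.Sh X} (k : F ⟶ G) : IsIso k :=
  isIso_of_stalks (A := Type (u + 1)) k fun _ _ _ ξ => isEmptyElim (ξ.base default)

/-- Isomorphisms of sheaves can be detected on a jointly surjective pair of morphisms. -/
theorem isIso_of_jointly {A B : Scheme.{u}} (p : A ⟶ X) (q : B ⟶ X)
    (hpq : ∀ x : X, x ∈ Set.range p.base ∨ x ∈ Set.range q.base) {F G : EtDesc.Sh X} (k : F ⟶ G)
    (hp : IsIso ((EtDesc.pullSh p).map k)) (hq : IsIso ((EtDesc.pullSh q).map k)) : IsIso k := by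
  refine isIso_of_stalks (A := Type (u + 1)) k fun Ω _ _ ξ => ?_
  have key : ∀ {C : Scheme.{u}} (r : C ⟶ X), IsIso ((EtDesc.pullSh r).map k) →
      ξ.base default ∈ Set.range r.base → IsIso ((stk (A := Type (u + 1)) ξ).map k) := by
    intro C r hr hx
    obtain ⟨c, hc⟩ := hx
    obtain ⟨Ω', _, _, ξ', hξ'⟩ := exists_geometric_pt c
    obtain ⟨i⟩ := nonempty_stk_iso_of_eq (A := Type (u + 1)) (ξ := ξ) (ξ' := ξ' ≫ r)
      ((congrArg r.base hξ').trans hc)
    refine (NatIso.isIso_map_iff i k).2 ((NatIso.isIso_map_iff (stalkPull r ξ' (Type (u + 1))) k).2 ?_)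
    exact inferInstanceAs (IsIso ((stk (A := Type (u + 1)) ξ').map ((EtDesc.pullSh r).map k)))
  exact (hpq (ξ.base default)).elim (key p hp) (key q hq)

/-- Inverse images turn the projection opposite to a morphism which becomes invertible into an isomorphism. -/
theorem isIso_pullSh_snd (r : X' ⟶ X) {A B C : EtDesc.Sh X} (a : A ⟶ C) (b : B ⟶ C)
    (ha : IsIso ((EtDesc.pullSh r).map a)) : IsIso ((EtDesc.pullSh r).map (pullback.snd a b)) := by
  refine isIso_of_stalks (A := Type (u + 1)) _ fun Ω _ _ ξ => ?_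
  refine (NatIso.isIso_map_iff (stalkPull r ξ (Type (u + 1))) (pullback.snd a b)).1 ?_
  haveI : IsIso ((stk (A := Type (u + 1)) (ξ ≫ r)).map a) :=
    (NatIso.isIso_map_iff (stalkPull r ξ (Type (u + 1))) a).2
      (inferInstanceAs (IsIso ((stk (A := Type (u + 1)) ξ).map ((EtDesc.pullSh r).map a))))
  exact ((IsPullback.of_hasPullback a b).map (stk (A := Type (u + 1)) (ξ ≫ r))).isIso_snd_of_isIso

theorem isIso_pullSh_fst (r : X' ⟶ X) {A B C : EtDesc.Sh X} (a : A ⟶ C) (b : B ⟶ C)
    (hb : IsIso ((EtDesc.pullSh r).map b)) : IsIso ((EtDesc.pullSh r).map (pullback.fst a b)) := by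
  refine isIso_of_stalks (A := Type (u + 1)) _ fun Ω _ _ ξ => ?_
  refine (NatIso.isIso_map_iff (stalkPull r ξ (Type (u + 1))) (pullback.fst a b)).1 ?_
  haveI : IsIso ((stk (A := Type (u + 1)) (ξ ≫ r)).map b) :=
    (NatIso.isIso_map_iff (stalkPull r ξ (Type (u + 1))) b).2
      (inferInstanceAs (IsIso ((stk (A := Type (u + 1)) ξ).map ((EtDesc.pullSh r).map b))))
  exact ((IsPullback.of_hasPullback a b).map (stk (A := Type (u + 1)) (ξ ≫ r))).isIso_fst_of_isIso

end

end ModifSquareLib
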