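import Groth.Agent.ModifSquareLib.Key

/-!
# Sheaves of sets on a modification square
-/

set_option autoImplicit false
set_option linter.style.haveILetI false
set_option linter.unusedSectionVars false
set_option backward.isDefEq.respectTransparency false
set_option backward.isDefEq.respectTransparency.types false
universe u

open CategoryTheory CategoryTheory.Limits AlgebraicGeometry Opposite Groth.Agent.EtShLib

namespace ModifSquareLib

noncomputable section

variable {X X' Z E : Scheme.{u}} (f : X' ⟶ X) (i : Z ⟶ X) {j : E ⟶ X'} {g : E ⟶ Z} (c : IsPullback j g f i)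
  {F' : EtDesc.Sh X'} {G : EtDesc.Sh Z} (α : (EtDesc.pullSh j).obj F' ≅ (EtDesc.pullSh g).obj G)

/-- The comparison on the closed subscheme. -/
def low : (EtDesc.pullSh i).obj ((EtDesc.pushSh f).obj F') ⟶ (EtDesc.pushSh g).obj ((EtDesc.pullSh g).obj G) :=
  EtBC.baseChange0Sh f i g j c.w F' ≫ (EtDesc.pushSh g).map α.hom

def legA : (EtDesc.pushSh f).obj F' ⟶ (EtDesc.pushSh i).obj ((EtDesc.pushSh g).obj ((EtDesc.pullSh g).obj G)) :=
  (EtDesc.adjSh i).homEquiv _ _ (low f i c α)

def legB (g : E ⟶ Z) (G : EtDesc.Sh Z) :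
    (EtDesc.pushSh i).obj G ⟶ (EtDesc.pushSh i).obj ((EtDesc.pushSh g).obj ((EtDesc.pullSh g).obj G)) :=
  (EtDesc.pushSh i).map ((EtDesc.adjSh g).unit.app G)

/-- The glued sheaf. -/
def glue : EtDesc.Sh X := pullback (legA f i c α) (legB i g G)

def beta : (EtDesc.pullSh f).obj (glue f i c α) ⟶ F' :=
  ((EtDesc.adjSh f).homEquiv _ _).symm (pullback.fst (legA f i c α) (legB i g G))

def gam : (EtDesc.pullSh i).obj (glue f i c α) ⟶ G :=
  ((EtDesc.adjSh i).homEquiv _ _).symm (pullback.snd (legA f i c α) (legB i g G))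

theorem map_low_counit {M : EtDesc.Sh X} (k : M ⟶ (EtDesc.pushSh f).obj F') :
    (EtDesc.pullSh g).map ((EtDesc.pullSh i).map k ≫ low f i c α) ≫ (EtDesc.adjSh g).counit.app _ =
      (canon f i g j c.w M).inv ≫ (EtDesc.pullSh j).map (((EtDesc.adjSh f).homEquiv _ _).symm k) ≫ α.hom := by
  rw [Adjunction.homEquiv_symm_apply, Functor.map_comp (EtDesc.pullSh j), counit_eq f i g j c.w, low,
    Functor.map_comp, Functor.map_comp]
  simp only [Category.assoc]
  rw [reassoc_of% canon_natural f i g j c.w k, Iso.inv_hom_id_assoc]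
  refine congrArg (fun m => _ ≫ _ ≫ m) ?_
  exact (EtDesc.adjSh g).counit.naturality α.hom

theorem gam_unit : gam f i c α ≫ (EtDesc.adjSh g).unit.app G =
    (EtDesc.pullSh i).map (pullback.fst (legA f i c α) (legB i g G)) ≫ low f i c α := by
  have h := congrArg ((EtDesc.adjSh i).homEquiv _ _).symm
    (pullback.condition (f := legA f i c α) (g := legB i g G))
  rw [Adjunction.homEquiv_naturality_left_symm] at h
  have h1 : ((EtDesc.adjSh i).homEquiv _ _).symm (legA f i c α) = low f i c α := Equiv.symm_apply_apply _ _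
  rw [h1, legB, Adjunction.homEquiv_naturality_right_symm] at h
  exact h.symm

theorem compat : (EtDesc.pullSh j).map (beta f i c α) ≫ α.hom =
    (canon f i g j c.w (glue f i c α)).hom ≫ (EtDesc.pullSh g).map (gam f i c α) := by
  have h := map_low_counit f i c α (pullback.fst (legA f i c α) (legB i g G))
  rw [← gam_unit, Functor.map_comp, Category.assoc, Adjunction.left_triangle_components] at h
  rw [← Iso.inv_comp_eq]
  exact h.symm.trans (Category.comp_id _)

theorem isIso_gam [IsProper f] [IsClosedImmersion i] : IsIso (gam f i c α) := by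
  haveI := EtProperH0Lib.isIso_baseChange0Sh c F'
  haveI : IsIso (low f i c α) := by unfold low; infer_instance
  haveI : ∀ N : EtDesc.Sh Z, IsIso ((EtDesc.adjSh i).counit.app N) := fun N => isIso_counit_immersion i N
  haveI : IsIso ((EtDesc.pullSh i).map (legA f i c α)) := by
    have h : (EtDesc.pullSh i).map (legA f i c α) ≫ (EtDesc.adjSh i).counit.app _ = low f i c α :=
      ((EtDesc.adjSh i).homEquiv_symm_apply _ _ _).symm.trans (Equiv.symm_apply_apply _ _)
    exact IsIso.of_isIso_fac_right h
  haveI := isIso_pullSh_snd i (legA f i c α) (legB i g G) inferInstance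
  rw [gam, Adjunction.homEquiv_symm_apply]
  infer_instance

variable {U : Scheme.{u}} (u : U ⟶ X) (hU : Set.range u = (Set.range i)ᶜ) (hf : IsIso (pullback.snd f u))

include hU in
theorem isIso_pull_legB [IsProper i] : IsIso ((EtDesc.pullSh u).map (legB i g G)) := by
  haveI : IsEmpty ↥(pullback i u) := ⟨fun x => by
    have h : i.base ((pullback.fst i u).base x) = u.base ((pullback.snd i u).base x) :=
      congrArg (fun k : pullback i u ⟶ X => k.base x) pullback.condition
    have h' : u.base ((pullback.snd i u).base x) ∈ (Set.range i)ᶜ := hU ▸ Set.mem_range_self _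
    exact h' ⟨_, h⟩⟩
  haveI : ∀ N : EtDesc.Sh Z,
      IsIso (EtBC.baseChange0Sh i u (pullback.snd i u) (pullback.fst i u) pullback.condition N) := fun N =>
    EtProperH0Lib.isIso_baseChange0Sh (IsPullback.of_hasPullback i u) N
  haveI : IsIso ((EtDesc.pullSh (pullback.fst i u)).map ((EtDesc.adjSh g).unit.app G)) := isIso_of_isEmpty _
  exact IsIso.of_isIso_fac_right
    (baseChange0Sh_natural i u (pullback.snd i u) (pullback.fst i u) pullback.condition ((EtDesc.adjSh g).unit.app G))

include hU hf in
theorem isIso_beta [IsProper f] [IsClosedImmersion i] : IsIso (beta f i c α) := by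
  refine isIso_of_jointly j (pullback.fst f u) (fun x => ?_) _ ?_ ?_
  · by_cases hx : f.base x ∈ Set.range i.base
    · refine Or.inl ?_
      obtain ⟨z, hz⟩ := hx
      obtain ⟨e, he, -⟩ := Scheme.Pullback.exists_preimage_pullback (f := f) (g := i) x z hz.symm
      exact ⟨c.isoPullback.inv.base e, by rw [← Scheme.Hom.comp_apply, c.isoPullback_inv_fst]; exact he⟩
    · refine Or.inr ?_
      obtain ⟨z, hz⟩ : f.base x ∈ Set.range u.base := hU.symm ▸ hx
      obtain ⟨e, he, -⟩ := Scheme.Pullback.exists_preimage_pullback (f := f) (g := u) x z hz.symm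
      exact ⟨e, he⟩
  · haveI := isIso_gam f i c α
    exact IsIso.of_isIso_fac_right (compat f i c α)
  · haveI := hf
    haveI : IsIso ((EtDesc.pullSh u).map (pullback.fst (legA f i c α) (legB i g G))) :=
      isIso_pullSh_fst u _ _ (isIso_pull_legB i u hU)
    haveI := EtProperH0Lib.isIso_baseChange0Sh (IsPullback.of_hasPullback f u) F'
    haveI := isIso_counit_immersion (pullback.snd f u) ((EtDesc.pullSh (pullback.fst f u)).obj F')
    rw [beta, Adjunction.homEquiv_symm_apply, Functor.map_comp]
    haveI : IsIso ((EtDesc.pullSh (pullback.fst f u)).map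
        ((EtDesc.pullSh f).map (pullback.fst (legA f i c α) (legB i g G)))) :=
      IsIso.of_isIso_fac_right (canon_natural f u (pullback.snd f u) (pullback.fst f u) pullback.condition _)
    haveI : IsIso ((EtDesc.pullSh (pullback.fst f u)).map ((EtDesc.adjSh f).counit.app F')) := by
      rw [counit_eq f u (pullback.snd f u) (pullback.fst f u) pullback.condition]
      infer_instance
    infer_instance

section Lift

variable {M : EtDesc.Sh X} (a : (EtDesc.pullSh f).obj M ⟶ F') (b : (EtDesc.pullSh i).obj M ⟶ G)
  (h : (EtDesc.pullSh j).map a ≫ α.hom = (canon f i g j c.w M).hom ≫ (EtDesc.pullSh g).map b)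

include h in
theorem lift_cond : (EtDesc.adjSh f).homEquiv _ _ a ≫ legA f i c α =
    (EtDesc.adjSh i).homEquiv _ _ b ≫ legB i g G := by
  apply ((EtDesc.adjSh i).homEquiv _ _).symm.injective
  rw [Adjunction.homEquiv_naturality_left_symm, legB, Adjunction.homEquiv_naturality_right_symm,
    Equiv.symm_apply_apply, legA, Equiv.symm_apply_apply]
  apply ((EtDesc.adjSh g).homEquiv _ _).symm.injective
  rw [Adjunction.homEquiv_symm_apply, map_low_counit, Equiv.symm_apply_apply, h, Iso.inv_hom_id_assoc,
    Adjunction.homEquiv_symm_apply, Functor.map_comp, Category.assoc, Adjunction.left_triangle_components]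
  exact (Category.comp_id _).symm

/-- The map into the glued sheaf. -/
def toGlue : M ⟶ glue f i c α :=
  pullback.lift ((EtDesc.adjSh f).homEquiv _ _ a) ((EtDesc.adjSh i).homEquiv _ _ b) (lift_cond f i c α a b h)

theorem map_toGlue_beta : (EtDesc.pullSh f).map (toGlue f i c α a b h) ≫ beta f i c α = a := by
  rw [beta, ← Adjunction.homEquiv_naturality_left_symm, toGlue]
  exact (congrArg _ (pullback.lift_fst _ _ _)).trans (Equiv.symm_apply_apply _ _)

theorem map_toGlue_gam : (EtDesc.pullSh i).map (toGlue f i c α a b h) ≫ gam f i c α = b := by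
  rw [gam, ← Adjunction.homEquiv_naturality_left_symm, toGlue]
  exact (congrArg _ (pullback.lift_snd _ _ _)).trans (Equiv.symm_apply_apply _ _)

theorem eq_toGlue (k : M ⟶ glue f i c α) (ha : (EtDesc.pullSh f).map k ≫ beta f i c α = a)
    (hb : (EtDesc.pullSh i).map k ≫ gam f i c α = b) : k = toGlue f i c α a b h := by
  refine pullback.hom_ext ?_ ?_
  · rw [beta, ← Adjunction.homEquiv_naturality_left_symm, Equiv.symm_apply_eq] at ha
    exact ha.trans (pullback.lift_fst _ _ _).symm
  · rw [gam, ← Adjunction.homEquiv_naturality_left_symm, Equiv.symm_apply_eq] at hb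
    exact hb.trans (pullback.lift_snd _ _ _).symm

end Lift

/-- The comparison of a sheaf with the gluing of its restrictions. -/
def eta (M : EtDesc.Sh X) : M ⟶ glue f i c (canon f i g j c.w M) :=
  toGlue f i c (canon f i g j c.w M) (𝟙 _) (𝟙 _) (by simp)

include hU hf in
theorem isIso_eta [IsProper f] [IsClosedImmersion i] (M : EtDesc.Sh X) : IsIso (eta f i c M) := by
  refine isIso_of_jointly f i (fun x => ?_) _ ?_ ?_
  · by_cases hx : x ∈ Set.range i.base
    · exact Or.inr hx
    · refine Or.inl ?_
      obtain ⟨z, rfl⟩ : x ∈ Set.range u.base := hU.symm ▸ hx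
      haveI := hf
      obtain ⟨e, rfl⟩ := (pullback.snd f u).surjective z
      exact ⟨(pullback.fst f u).base e, congrArg (fun k : pullback f u ⟶ X => k.base e) pullback.condition⟩
  · haveI := isIso_beta f i c (canon f i g j c.w M) u hU hf
    exact IsIso.of_isIso_fac_right (map_toGlue_beta f i c (canon f i g j c.w M) (𝟙 _) (𝟙 _) (by simp))
  · haveI := isIso_gam f i c (canon f i g j c.w M)
    exact IsIso.of_isIso_fac_right (map_toGlue_gam f i c (canon f i g j c.w M) (𝟙 _) (𝟙 _) (by simp))

end

end ModifSquareLib
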